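import Cfsg.Agent.Lib.Theta.Poisson

/-!
The theta series of an even unimodular positive lattice of rank `24`, its modularity, and the
counts of short vectors in the rootless case.
-/

set_option autoImplicit false

open Matrix Complex UpperHalfPlane ModularForm ModularFormClass MatrixGroups EisensteinSeries
open scoped Real MatrixOrder ArithmeticFunction.sigma
open SlashInvariantForm (slash_action_generators_SL2Z)
set_option linter.style.haveILetI false

namespace CfsgLib.Theta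

variable {n : ℕ}

/-- An even unimodular positive definite integral form. -/
structure IsEven (B : Matrix (Fin n) (Fin n) ℤ) : Prop where
  symm : B.IsSymm
  pos : ∀ x : Fin n → ℤ, x ≠ 0 → 0 < x ⬝ᵥ (B *ᵥ x)
  even : ∀ x : Fin n → ℤ, (2 : ℤ) ∣ x ⬝ᵥ (B *ᵥ x)
  det : B.det = 1

theorem posSemidef_real {B : Matrix (Fin n) (Fin n) ℤ} (hB : IsEven B) :
    (B.map (Int.cast : ℤ → ℝ)).PosSemidef := by
  refine Matrix.PosSemidef.of_dotProduct_mulVec_nonneg ?_ fun x => ?_
  · ext i j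
    simp [conjTranspose, hB.symm.apply i j]
  · -- non-negative at rational points, hence everywhere
    let q : (Fin n → ℝ) → ℝ := fun y => star y ⬝ᵥ (B.map (Int.cast : ℤ → ℝ) *ᵥ y)
    have hq : Continuous q := by unfold q dotProduct Matrix.mulVec dotProduct; fun_prop
    have hint : ∀ m : Fin n → ℤ, 0 ≤ q (vec m) := fun m => by
      have : q (vec m) = ((m ⬝ᵥ (B *ᵥ m) : ℤ) : ℝ) := by
        simp [q, vec, dotProduct, mulVec]
      rw [this, Int.cast_nonneg_iff]
      rcases eq_or_ne m 0 with rfl | h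
      · simp
      · exact (hB.pos m h).le
    have hlim : Filter.Tendsto (fun k : ℕ => q fun i => (⌊((k : ℝ) + 1) * x i⌋ : ℝ) / ((k : ℝ) + 1))
        Filter.atTop (nhds (q x)) := by
      refine (hq.tendsto x).comp (tendsto_pi_nhds.2 fun i => ?_)
      have h1 := (tendsto_one_div_add_atTop_nhds_zero_nat (𝕜 := ℝ)).const_sub (x i)
      rw [sub_zero] at h1
      refine tendsto_of_tendsto_of_tendsto_of_le_of_le h1 tendsto_const_nhds (fun k => ?_) fun k => ?_
      · have h2 := Int.lt_floor_add_one (((k : ℝ) + 1) * x i)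
        show x i - 1 / ((k : ℝ) + 1) ≤ _
        rw [le_div_iff₀ (by positivity), sub_mul, one_div_mul_cancel (by positivity)]
        linarith
      · show _ ≤ x i
        rw [div_le_iff₀ (by positivity)]
        linarith [Int.floor_le (((k : ℝ) + 1) * x i)]
    refine ge_of_tendsto' hlim fun k => ?_
    have e : (fun i => (⌊((k : ℝ) + 1) * x i⌋ : ℝ) / ((k : ℝ) + 1)) =
        ((k : ℝ) + 1)⁻¹ • vec fun i => ⌊((k : ℝ) + 1) * x i⌋ := by
      funext i
      simp [vec, div_eq_inv_mul]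
    rw [e]
    simp only [q, star_smul, mulVec_smul, smul_dotProduct, dotProduct_smul, smul_eq_mul]
    exact mul_nonneg (by simp; positivity) (mul_nonneg (by simp; positivity) (hint _))

theorem exists_sqrt {B : Matrix (Fin n) (Fin n) ℤ} (hB : IsEven B) :
    ∃ M : Matrix (Fin n) (Fin n) ℝ, |M.det| = 1 ∧ Mᵀ * M = B.map (Int.cast : ℤ → ℝ) := by
  obtain ⟨M, hM⟩ := CStarAlgebra.nonneg_iff_eq_star_mul_self.mp (posSemidef_real hB).nonneg
  refine ⟨M, ?_, ?_⟩
  · have h := congrArg Matrix.det hM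
    rw [show B.map (Int.cast : ℤ → ℝ) = (Int.castRingHom ℝ).mapMatrix B from rfl,
      ← RingHom.map_det, hB.det, map_one, det_mul, star_eq_conjTranspose,
      conjTranspose_eq_transpose_of_trivial, det_transpose] at h
    rcases mul_self_eq_one_iff.1 h.symm with e | e <;> simp [e]
  · rw [hM, star_eq_conjTranspose, conjTranspose_eq_transpose_of_trivial]

theorem qf_vec {B : Matrix (Fin n) (Fin n) ℤ} {M : Matrix (Fin n) (Fin n) ℝ}
    (hM : Mᵀ * M = B.map (Int.cast : ℤ → ℝ)) (m : Fin n → ℤ) :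
    qf M (vec m) = ((m ⬝ᵥ (B *ᵥ m) : ℤ) : ℝ) := by
  have : qf M (vec m) = (M *ᵥ vec m) ⬝ᵥ (M *ᵥ vec m) := by simp [qf, dotProduct, sq]
  rw [this, dotProduct_mulVec, vecMul_mulVec, hM, ← dotProduct_mulVec]
  simp [vec, dotProduct, mulVec]

theorem qf_dual {B : Matrix (Fin n) (Fin n) ℤ} {M : Matrix (Fin n) (Fin n) ℝ} (hd : |M.det| = 1)
    (hM : Mᵀ * M = B.map (Int.cast : ℤ → ℝ)) (m : Fin n → ℤ) :
    qf M⁻¹ᵀ (vec (B *ᵥ m)) = qf M (vec m) := by
  have hdet : IsUnit M.det := isUnit_iff_ne_zero.2 fun e => by simp [e] at hd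
  have e1 : vec (B *ᵥ m) = Mᵀ *ᵥ (M *ᵥ vec m) := by
    rw [mulVec_mulVec, hM]
    funext i
    simp [vec, mulVec, dotProduct]
  have e2 : M⁻¹ᵀ *ᵥ vec (B *ᵥ m) = M *ᵥ vec m := by
    rw [e1, mulVec_mulVec, ← transpose_mul, mul_nonsing_inv M hdet, transpose_one, one_mulVec]
  simp [qf, e2]

/-- The terms of the theta series. -/
noncomputable def term (B : Matrix (Fin n) (Fin n) ℤ) (τ : ℂ) (x : Fin n → ℤ) : ℂ :=
  exp (π * Complex.I * τ * ((x ⬝ᵥ (B *ᵥ x) : ℤ) : ℝ))

/-- The theta series. -/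
noncomputable def theta (B : Matrix (Fin n) (Fin n) ℤ) (τ : ℍ) : ℂ := ∑' x, term B τ x

theorem term_eq {B : Matrix (Fin n) (Fin n) ℤ} {M : Matrix (Fin n) (Fin n) ℝ}
    (hM : Mᵀ * M = B.map (Int.cast : ℤ → ℝ)) (τ : ℂ) (x : Fin n → ℤ) :
    term B τ x = gauss M τ (vec x) := by
  rw [term, gauss, qf_vec hM]

theorem summable_term {B : Matrix (Fin n) (Fin n) ℤ} (hB : IsEven B) {τ : ℂ} (hτ : 0 < τ.im) :
    Summable (term B τ) := by
  obtain ⟨M, hd, hM⟩ := exists_sqrt hB
  rw [show term B τ = _ from funext (term_eq hM τ)]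
  exact summable_gauss (isUnit_iff_ne_zero.2 fun e => by simp [e] at hd) hτ

theorem theta_differentiable {B : Matrix (Fin n) (Fin n) ℤ} (hB : IsEven B) :
    DifferentiableOn ℂ (fun z : ℂ => ∑' x, term B z x) {z | 0 < z.im} := by
  obtain ⟨M, hd, hM⟩ := exists_sqrt hB
  obtain ⟨c, hc, hcM⟩ := qf_bound (M := M) (isUnit_iff_ne_zero.2 fun e => by simp [e] at hd)
  intro z (hz : 0 < z.im)
  have hopen : IsOpen {w : ℂ | z.im / 2 < w.im} := isOpen_lt continuous_const Complex.continuous_im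
  refine ((differentiableOn_tsum_of_summable_norm
    (summable_exp_sum_sq (π * (z.im / 2) * c) (by positivity) n) (fun x => ?_) hopen
    (fun x w (hw : z.im / 2 < w.im) => ?_)).differentiableAt
      (hopen.mem_nhds (show z.im / 2 < z.im by linarith))).differentiableWithinAt
  · unfold term; fun_prop
  · rw [term_eq hM]
    exact norm_gauss_le hc hcM (by positivity) hw.le (vec x)

theorem theta_T {B : Matrix (Fin n) (Fin n) ℤ} (hB : IsEven B) (k : ℤ) :
    theta B ∣[k] ModularGroup.T = theta B := by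
  funext τ
  rw [SL_slash_apply, modular_T_smul]
  have hden : denom ((ModularGroup.T : SL(2, ℤ)) : GL (Fin 2) ℝ) τ = 1 := by
    simp [denom, ModularGroup.coe_T]
  simp [theta, hden]
  refine tsum_congr fun x => ?_
  obtain ⟨j, hj⟩ := hB.even x
  simp only [term, hj]
  rw [show π * Complex.I * (1 + (τ : ℂ)) * (((2 * j : ℤ) : ℝ) : ℂ) =
    π * Complex.I * (τ : ℂ) * (((2 * j : ℤ) : ℝ) : ℂ) + j * (2 * π * Complex.I) by push_cast; ring,
    Complex.exp_add, exp_int_mul_two_pi_mul_I, mul_one]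

theorem theta_S {B : Matrix (Fin 24) (Fin 24) ℤ} (hB : IsEven B) :
    theta B ∣[(12 : ℤ)] ModularGroup.S = theta B := by
  obtain ⟨M, hd, hM⟩ := exists_sqrt hB
  have hunit : IsUnit B.det := by rw [hB.det]; exact isUnit_one
  let e : (Fin 24 → ℤ) ≃ (Fin 24 → ℤ) :=
    { toFun := fun m => B *ᵥ m
      invFun := fun m => B⁻¹ *ᵥ m
      left_inv := fun m => by simp [mulVec_mulVec, nonsing_inv_mul B hunit]
      right_inv := fun m => by simp [mulVec_mulVec, mul_nonsing_inv B hunit] }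
  funext τ
  rw [SL_slash_apply, UpperHalfPlane.modular_S_smul]
  simp [ModularGroup.denom_S]
  have hp := poisson hd (h := 12) rfl (τ := (τ : ℂ)) τ.im_pos
  rw [← e.tsum_eq (fun k => gauss M⁻¹ᵀ (-1 / (τ : ℂ)) (vec k))] at hp
  have h1 : ∀ m, gauss M⁻¹ᵀ (-1 / (τ : ℂ)) (vec (e m)) = term B (-1 / (τ : ℂ)) m := fun m => by
    show gauss M⁻¹ᵀ (-1 / (τ : ℂ)) (vec (B *ᵥ m)) = _
    rw [term_eq hM, gauss, gauss, qf_dual hd hM]
  simp only [← term_eq hM] at hp
  rw [tsum_congr h1] at hp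
  show theta B _ * _ = theta B τ
  rw [theta, theta, hp]
  have hcoe : -(τ : ℂ)⁻¹ = -1 / (τ : ℂ) := by field_simp
  simp only [hcoe]
  have hI : (Complex.I / (τ : ℂ)) ^ 12 = (τ : ℂ) ^ (-12 : ℤ) := by
    rw [div_pow, show Complex.I ^ 12 = 1 by rw [show 12 = 4 * 3 from rfl, pow_mul, I_pow_four, one_pow],
      _root_.zpow_neg, one_div]
    rfl
  rw [hI, mul_comm, _root_.zpow_neg]
  norm_cast

/-- The number of lattice vectors of norm `2 k`. -/
noncomputable def count (B : Matrix (Fin n) (Fin n) ℤ) (k : ℕ) : ℕ :=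
  {x : Fin n → ℤ | x ⬝ᵥ (B *ᵥ x) = 2 * (k : ℤ)}.ncard

theorem finite_level {B : Matrix (Fin n) (Fin n) ℤ} (hB : IsEven B) (r : ℤ) :
    {x : Fin n → ℤ | x ⬝ᵥ (B *ᵥ x) = r}.Finite := by
  obtain ⟨M, hd, hM⟩ := exists_sqrt hB
  obtain ⟨c, hc, hcM⟩ := qf_bound (M := M) (isUnit_iff_ne_zero.2 fun e => by simp [e] at hd)
  obtain ⟨N, hN⟩ := exists_nat_ge ((r : ℝ) / c)
  refine (Set.Finite.pi' fun _ : Fin n => Set.finite_Icc (-(N : ℤ)) N).subset fun x hx i => ?_
  have h := hcM (vec x)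
  rw [qf_vec hM, show x ⬝ᵥ (B *ᵥ x) = r from hx] at h
  have h2 : (vec x i) ^ 2 ≤ N := le_trans (le_trans (Finset.single_le_sum (f := fun j => vec x j ^ 2)
    (fun j _ => sq_nonneg _) (Finset.mem_univ i)) ((le_div_iff₀ hc).2 (by linarith))) hN
  have h3 : x i ^ 2 ≤ (N : ℤ) := by simp only [vec] at h2; exact_mod_cast h2
  have h4 : |x i| ≤ x i ^ 2 := by rw [← sq_abs]; exact Int.le_self_sq _
  exact Set.mem_Icc.2 (abs_le.1 (h4.trans h3))

theorem hasSum_theta {B : Matrix (Fin n) (Fin n) ℤ} (hB : IsEven B) (τ : ℍ) :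
    HasSum (fun k => (count B k : ℂ) • Function.Periodic.qParam 1 τ ^ k) (theta B τ) := by
  have hnn : ∀ x : Fin n → ℤ, 0 ≤ x ⬝ᵥ (B *ᵥ x) := fun x => by
    rcases eq_or_ne x 0 with rfl | h
    · simp
    · exact (hB.pos x h).le
  let f : (Fin n → ℤ) → ℕ := fun x => ((x ⬝ᵥ (B *ᵥ x)) / 2).toNat
  have hfib : ∀ x k, f x = k ↔ x ⬝ᵥ (B *ᵥ x) = 2 * (k : ℤ) := fun x k => by
    obtain ⟨j, hj⟩ := hB.even x
    have := hnn x
    simp only [f, hj] at this ⊢
    omega
  have hs : HasSum (fun p => term B τ ((Equiv.sigmaFiberEquiv f) p)) (theta B τ) :=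
    (Equiv.sigmaFiberEquiv f).hasSum_iff.2 (summable_term hB τ.im_pos).hasSum
  refine hs.sigma fun k => ?_
  have hfin : {x : Fin n → ℤ | x ⬝ᵥ (B *ᵥ x) = 2 * (k : ℤ)}.Finite := finite_level hB _
  haveI : Finite {x // f x = k} :=
    (hfin.subset fun x (hx : f x = k) => (hfib x k).1 hx).to_subtype
  haveI := Fintype.ofFinite {x // f x = k}
  have hval : ∀ y : {x // f x = k}, term B τ ((Equiv.sigmaFiberEquiv f) ⟨k, y⟩) =
      Function.Periodic.qParam 1 τ ^ k := fun y => by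
    show term B τ y.1 = _
    rw [term, (hfib y.1 k).1 y.2, Function.Periodic.qParam, ← Complex.exp_nat_mul]
    congr 1
    push_cast
    ring
  have hc : (count B k) = Fintype.card {x // f x = k} := by
    rw [count, ← Nat.card_eq_fintype_card, ← Nat.card_coe_set_eq]
    exact Nat.card_congr (Equiv.subtypeEquivRight fun x => (hfib x k).symm)
  convert hasSum_fintype _ using 1
  rw [Finset.sum_congr rfl fun y _ => hval y, Finset.sum_const, Finset.card_univ, hc,
    nsmul_eq_mul, smul_eq_mul]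

theorem slash_theta {B : Matrix (Fin 24) (Fin 24) ℤ} (hB : IsEven B) (γ : SL(2, ℤ)) :
    theta B ∣[(12 : ℤ)] γ = theta B :=
  slash_action_generators_SL2Z (theta_S hB) (theta_T hB 12) γ

/-- The theta series as a modular form. -/
noncomputable def thetaForm {B : Matrix (Fin 24) (Fin 24) ℤ} (hB : IsEven B) :
    ModularForm 𝒮ℒ 12 where
  toFun := theta B
  slash_action_eq' A hA := by
    obtain ⟨A, rfl⟩ := hA
    exact slash_theta hB A
  holo' := by
    rw [UpperHalfPlane.mdifferentiable_iff]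
    refine (theta_differentiable hB).congr fun z hz => ?_
    simp [theta, ofComplex_apply_of_im_pos hz]
  bdd_at_cusps' hc := by
    rw [Subgroup.IsArithmetic.isCusp_iff_isCusp_SL2Z] at hc
    rw [OnePoint.isBoundedAt_iff_forall_SL2Z hc]
    intro γ _
    rw [slash_theta hB]
    exact isBoundedAtImInfty_of_hasSum_qExpansion one_pos (hasSum_theta hB)

theorem count_eq {B : Matrix (Fin 24) (Fin 24) ℤ} (hB : IsEven B) (k : ℕ) :
    (qExpansion 1 (thetaForm hB)).coeff k = count B k :=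
  (ModularFormClass.qExpansion_coeff_unique (f := thetaForm hB) one_pos
    one_mem_strictPeriods_SL (hasSum_theta hB) k).symm

theorem count_zero {B : Matrix (Fin n) (Fin n) ℤ} (hB : IsEven B) : count B 0 = 1 := by
  rw [count, Set.ncard_eq_one]
  refine ⟨0, Set.ext fun x => ⟨fun h => ?_, fun h => ?_⟩⟩
  · by_contra hx
    have := hB.pos x hx
    simp only [Set.mem_setOf_eq] at h
    omega
  · simp [Set.mem_singleton_iff.1 h]

theorem rootless_counts {B : Matrix (Fin 24) (Fin 24) ℤ} (hB : IsEven B)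
    (h2 : ∀ x : Fin 24 → ℤ, x ⬝ᵥ (B *ᵥ x) ≠ 2) :
    count B 2 = 196560 ∧ count B 3 = 16773120 ∧ count B 4 = 398034000 := by
  let p : ModularForm 𝒮ℒ 12 := ModularForm.mcast (by decide) (E₄.pow 3)
  let r : ModularForm 𝒮ℒ 12 := ModularForm.mcast (by decide) (E₆.pow 2)
  let d : ModularForm 𝒮ℒ 12 := thetaForm hB - ((7 / 12 : ℂ) • p + (5 / 12 : ℂ) • r)
  let q4 := qExpansion 1 E₄
  let q6 := qExpansion 1 E₆
  have hp : qExpansion 1 p = q4 * q4 * q4 := by
    simp only [p, coe_mcast, ModularForm.qExpansion_pow one_pos one_mem_strictPeriods_SL, q4]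
    ring
  have hr : qExpansion 1 r = q6 * q6 := by
    simp only [r, coe_mcast, ModularForm.qExpansion_pow one_pos one_mem_strictPeriods_SL, q6]
    ring
  have hd : ∀ k, (qExpansion 1 d).coeff k = (count B k : ℂ) -
      ((7 / 12 : ℂ) * (q4 * q4 * q4).coeff k + (5 / 12 : ℂ) * (q6 * q6).coeff k) := fun k => by
    simp only [d, FunLike.coe_sub]
    rw [ModularForm.qExpansion_sub one_pos one_mem_strictPeriods_SL, FunLike.coe_add,
      ModularForm.qExpansion_add one_pos one_mem_strictPeriods_SL, FunLike.coe_smul,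
      ModularForm.qExpansion_smul one_pos one_mem_strictPeriods_SL, FunLike.coe_smul,
      ModularForm.qExpansion_smul one_pos one_mem_strictPeriods_SL, map_sub, map_add, count_eq hB,
      hp, hr]
    simp [smul_eq_mul]
  have a0 : q4.coeff 0 = 1 := E_qExpansion_coeff_zero _ ⟨2, rfl⟩
  have b0 : q6.coeff 0 = 1 := E_qExpansion_coeff_zero _ ⟨3, rfl⟩
  have hb4 : bernoulli 4 = -1 / 30 := by decide +kernel
  have hb6 : bernoulli 6 = 1 / 42 := by decide +kernel
  have a : ∀ k, k ≠ 0 → q4.coeff k = 240 * (σ 3 k : ℂ) := fun k hk => by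
    simp only [q4, E_qExpansion_coeff _ (⟨2, rfl⟩ : Even 4), hk, if_false, hb4]
    norm_num
  have b : ∀ k, k ≠ 0 → q6.coeff k = -504 * (σ 5 k : ℂ) := fun k hk => by
    simp only [q6, E_qExpansion_coeff _ (⟨3, rfl⟩ : Even 6), hk, if_false, hb6]
    norm_num
  have s31 : σ 3 1 = 1 := by decide +kernel
  have s32 : σ 3 2 = 9 := by decide +kernel
  have s33 : σ 3 3 = 28 := by decide +kernel
  have s34 : σ 3 4 = 73 := by decide +kernel
  have s51 : σ 5 1 = 1 := by decide +kernel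
  have s52 : σ 5 2 = 33 := by decide +kernel
  have s53 : σ 5 3 = 244 := by decide +kernel
  have s54 : σ 5 4 = 1057 := by decide +kernel
  have hcalc : (q4 * q4 * q4).coeff 0 = 1 ∧ (q4 * q4 * q4).coeff 1 = 720 ∧
      (q4 * q4 * q4).coeff 2 = 179280 ∧ (q4 * q4 * q4).coeff 3 = 16954560 ∧
      (q4 * q4 * q4).coeff 4 = 396974160 ∧ (q6 * q6).coeff 0 = 1 ∧ (q6 * q6).coeff 1 = -1008 ∧
      (q6 * q6).coeff 2 = 220752 ∧ (q6 * q6).coeff 3 = 16519104 ∧
      (q6 * q6).coeff 4 = 399517776 := by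
    norm_num [-PowerSeries.coeff_zero_eq_constantCoeff, PowerSeries.coeff_mul,
      Finset.Nat.antidiagonal_succ, a0, b0, a 1, a 2, a 3, a 4, b 1, b 2, b 3, b 4,
      s31, s32, s33, s34, s51, s52, s53, s54]
  obtain ⟨p0, p1, p2, p3, p4, r0, r1, r2, r3, r4⟩ := hcalc
  have hc1 : count B 1 = 0 := by
    rw [count, Set.ncard_eq_zero (finite_level hB _)]
    exact Set.eq_empty_iff_forall_notMem.2 fun x hx => h2 x (by simpa using hx)
  have hd0 : d = 0 := by
    refine ModularForm.sturm_bound_levelOne ((Nat.cast_lt (α := ℕ∞)).2 ?_ |>.trans_le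
      (PowerSeries.nat_le_order _ 2 fun i hi => ?_))
    · decide
    · interval_cases i
      · rw [hd, count_zero hB, p0, r0]; norm_num
      · rw [hd, hc1, p1, r1]; norm_num
  have hz : ∀ k, (count B k : ℂ) =
      (7 / 12 : ℂ) * (q4 * q4 * q4).coeff k + (5 / 12 : ℂ) * (q6 * q6).coeff k := fun k => by
    have := hd k
    rw [hd0, FunLike.coe_zero, qExpansion_zero, map_zero] at this
    exact sub_eq_zero.1 this.symm
  refine ⟨?_, ?_, ?_⟩
  · have := hz 2; rw [p2, r2] at this; norm_num at this; exact_mod_cast this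
  · have := hz 3; rw [p3, r3] at this; norm_num at this; exact_mod_cast this
  · have := hz 4; rw [p4, r4] at this; norm_num at this; exact_mod_cast this

end CfsgLib.Theta
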