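import Mathlib

/-!
Poisson summation for Gaussians on the integer points of `ℝ^n`.
-/

set_option autoImplicit false

open MeasureTheory Matrix Complex Set
open scoped Real

namespace CfsgLib.Theta

variable {n : ℕ}

/-- The squared length of `M x`. -/
noncomputable def qf (M : Matrix (Fin n) (Fin n) ℝ) (x : Fin n → ℝ) : ℝ := ∑ i, (M *ᵥ x) i ^ 2

/-- The real vector of an integer vector. -/
def vec (m : Fin n → ℤ) : Fin n → ℝ := fun i => m i

/-- The Gaussian attached to `M` and `τ`. -/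
noncomputable def gauss (M : Matrix (Fin n) (Fin n) ℝ) (τ : ℂ) (x : Fin n → ℝ) : ℂ :=
  exp (π * I * τ * qf M x)

theorem continuous_qf (M : Matrix (Fin n) (Fin n) ℝ) : Continuous (qf M) := by
  unfold qf Matrix.mulVec dotProduct; fun_prop

theorem continuous_gauss (M : Matrix (Fin n) (Fin n) ℝ) (τ : ℂ) : Continuous (gauss M τ) := by
  unfold gauss; have := continuous_qf M; fun_prop

theorem vec_add (a b : Fin n → ℤ) : vec (a + b) = vec a + vec b := by
  funext i; simp [vec]

theorem qf_bound {M : Matrix (Fin n) (Fin n) ℝ} (hM : IsUnit M.det) :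
    ∃ c : ℝ, 0 < c ∧ ∀ x, c * ∑ i, x i ^ 2 ≤ qf M x := by
  refine ⟨(∑ i, ∑ j, M⁻¹ i j ^ 2 + 1)⁻¹, by positivity, fun x => ?_⟩
  have h : ∀ i, x i ^ 2 ≤ (∑ j, M⁻¹ i j ^ 2) * qf M x := fun i => by
    have e : x i = ∑ j, M⁻¹ i j * (M *ᵥ x) j := by
      change x i = (M⁻¹ *ᵥ (M *ᵥ x)) i
      rw [mulVec_mulVec, nonsing_inv_mul M hM, one_mulVec]
    rw [e]
    exact Finset.sum_mul_sq_le_sq_mul_sq _ _ _
  have hq : 0 ≤ qf M x := Finset.sum_nonneg fun i _ => sq_nonneg _
  have h2 := Finset.sum_le_sum (fun i (_ : i ∈ Finset.univ) => h i)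
  rw [← Finset.sum_mul] at h2
  rw [inv_mul_le_iff₀ (by positivity)]
  linarith [mul_comm (qf M x) (∑ i, ∑ j, M⁻¹ i j ^ 2)]

theorem summable_exp_sq (a : ℝ) (ha : 0 < a) : Summable fun m : ℤ => Real.exp (-a * (m : ℝ) ^ 2) := by
  have key : Summable fun m : ℕ => Real.exp (-a * (m : ℝ) ^ 2) := by
    refine Summable.of_nonneg_of_le (fun m => (Real.exp_pos _).le) (fun m => ?_)
      (Real.summable_exp_nat_mul_iff.2 (neg_lt_zero.2 ha))
    refine Real.exp_le_exp.2 ?_
    have : (m : ℝ) ≤ (m : ℝ) ^ 2 := by exact_mod_cast Nat.le_self_pow two_ne_zero m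
    nlinarith
  refine Summable.of_nat_of_neg ?_ ?_ <;> simpa using key

theorem summable_exp_sum_sq (a : ℝ) (ha : 0 < a) :
    ∀ k : ℕ, Summable fun m : Fin k → ℤ => Real.exp (-a * ∑ i, (m i : ℝ) ^ 2) := by
  intro k
  induction k with
  | zero => exact Summable.of_finite
  | succ k ih =>
    rw [← (Fin.consEquiv fun _ : Fin (k + 1) => ℤ).summable_iff]
    refine ((summable_exp_sq a ha).mul_of_nonneg ih (fun _ => (Real.exp_pos _).le)
      fun _ => (Real.exp_pos _).le).congr fun p => ?_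
    simp [Fin.sum_univ_succ, mul_add, Real.exp_add]

theorem norm_gauss (M : Matrix (Fin n) (Fin n) ℝ) (τ : ℂ) (x : Fin n → ℝ) :
    ‖gauss M τ x‖ = Real.exp (-π * τ.im * qf M x) := by
  rw [gauss, norm_exp]
  congr 1
  simp [mul_re, mul_im]

theorem norm_gauss_le {M : Matrix (Fin n) (Fin n) ℝ} {c : ℝ} (hc : 0 < c)
    (hM : ∀ x, c * ∑ i, x i ^ 2 ≤ qf M x) {τ : ℂ} {s : ℝ} (hs : 0 ≤ s) (hτ : s ≤ τ.im)
    (x : Fin n → ℝ) : ‖gauss M τ x‖ ≤ Real.exp (-(π * s * c) * ∑ i, x i ^ 2) := by
  rw [norm_gauss]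
  refine Real.exp_le_exp.2 ?_
  have h0 : 0 ≤ c * ∑ i, x i ^ 2 := by positivity
  have h2 : s * (c * ∑ i, x i ^ 2) ≤ τ.im * qf M x := mul_le_mul hτ (hM x) h0 (hs.trans hτ)
  nlinarith [Real.pi_pos]

theorem norm_gauss_shift_le {M : Matrix (Fin n) (Fin n) ℝ} {c : ℝ} (hc : 0 < c)
    (hM : ∀ x, c * ∑ i, x i ^ 2 ≤ qf M x) {τ : ℂ} (hτ : 0 ≤ τ.im) {R : ℝ} (x : Fin n → ℝ)
    (hx : ∑ i, x i ^ 2 ≤ R) (m : Fin n → ℤ) :
    ‖gauss M τ (x + vec m)‖ ≤
      Real.exp (π * τ.im * c * R) * Real.exp (-(π * τ.im * c / 2) * ∑ i, (m i : ℝ) ^ 2) := by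
  refine (norm_gauss_le hc hM hτ le_rfl _).trans ?_
  rw [← Real.exp_add]
  refine Real.exp_le_exp.2 ?_
  have h : ∑ i, (m i : ℝ) ^ 2 ≤ 2 * ∑ i, (x + vec m) i ^ 2 + 2 * ∑ i, x i ^ 2 := by
    rw [Finset.mul_sum, Finset.mul_sum, ← Finset.sum_add_distrib]
    exact Finset.sum_le_sum fun i _ => by
      simp only [Pi.add_apply, vec]
      nlinarith [sq_nonneg (2 * x i + (m i : ℝ))]
  have hk : 0 ≤ π * τ.im * c := by positivity
  nlinarith [mul_le_mul_of_nonneg_left h hk, mul_le_mul_of_nonneg_left hx hk]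

theorem summable_gauss {M : Matrix (Fin n) (Fin n) ℝ} (hM : IsUnit M.det) {τ : ℂ} (hτ : 0 < τ.im) :
    Summable fun m : Fin n → ℤ => gauss M τ (vec m) := by
  obtain ⟨c, hc, hcM⟩ := qf_bound hM
  refine Summable.of_norm_bounded (summable_exp_sum_sq (π * τ.im * c) (by positivity) n) fun m => ?_
  exact norm_gauss_le hc hcM hτ.le le_rfl (vec m)

theorem measurePreserving_toLin {M : Matrix (Fin n) (Fin n) ℝ} (hM : |M.det| = 1) :
    MeasurePreserving (Matrix.toLin' M) volume volume := by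
  refine ⟨(LinearMap.continuous_on_pi _).measurable, ?_⟩
  rw [Real.map_matrix_volume_pi_eq_smul_volume_pi (fun h => by simp [h] at hM), abs_inv, hM]
  simp

/-- The exponential attached to an integer frequency. -/
noncomputable def chr (k : Fin n → ℤ) (x : Fin n → ℝ) : ℂ :=
  exp (∑ i, (-2 * π * I * (k i : ℂ)) * (x i : ℂ))

theorem integral_gauss {M : Matrix (Fin n) (Fin n) ℝ} (hM : |M.det| = 1) {h : ℕ} (hn : n = 2 * h)
    {τ : ℂ} (hτ : 0 < τ.im) (k : Fin n → ℤ) :
    Integrable (fun x => chr k x * gauss M τ x) ∧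
      ∫ x, chr k x * gauss M τ x = (I / τ) ^ h * gauss M⁻¹ᵀ (-1 / τ) (vec k) := by
  have hdet : IsUnit M.det := isUnit_iff_ne_zero.2 fun e => by simp [e] at hM
  let w : Fin n → ℝ := M⁻¹ᵀ *ᵥ vec k
  let g : (Fin n → ℝ) → ℂ := fun y =>
    exp (-(-π * I * τ) * ∑ i, (y i : ℂ) ^ 2 + ∑ i, (-2 * π * I * (w i : ℂ)) * (y i : ℂ))
  have hb : 0 < (-π * I * τ).re := by simp [mul_re, mul_im]; positivity
  have hpre : (fun x => chr k x * gauss M τ x) = fun x => g (Matrix.toLin' M x) := by
    funext x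
    have hdot : (∑ i, (w i) * (M *ᵥ x) i) = ∑ i, (k i : ℝ) * x i := by
      change dotProduct (M⁻¹ᵀ *ᵥ vec k) (M *ᵥ x) = dotProduct (vec k) x
      rw [mulVec_transpose, ← dotProduct_mulVec, mulVec_mulVec, nonsing_inv_mul M hdet, one_mulVec]
    have hdot' : (∑ i, (w i : ℂ) * ((M *ᵥ x) i : ℂ)) = ∑ i, (k i : ℂ) * (x i : ℂ) := by
      exact_mod_cast congrArg (fun r : ℝ => (r : ℂ)) hdot
    simp only [g, chr, gauss, qf, Matrix.toLin'_apply, ← Complex.exp_add, mul_assoc,
      ← Finset.mul_sum, hdot']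
    congr 1
    push_cast
    ring
  have hmp := measurePreserving_toLin hM
  have hemb : MeasurableEmbedding (Matrix.toLin' M) :=
    (Continuous.measurableEmbedding (LinearMap.continuous_on_pi _)
      (Function.LeftInverse.injective (g := Matrix.toLin' M⁻¹) fun x => by
        simp [nonsing_inv_mul M hdet]))
  refine ⟨?_, ?_⟩
  · rw [hpre]
    exact (hmp.integrable_comp_emb hemb).2
      (GaussianFourier.integrable_cexp_neg_mul_sum_add hb _)
  · rw [hpre, hmp.integral_comp hemb g, GaussianFourier.integral_cexp_neg_mul_sum_add hb,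
      Fintype.card_fin]
    have hτ0 : τ ≠ 0 := fun e => by simp [e] at hτ
    have hpi : (π : ℂ) ≠ 0 := ofReal_ne_zero.2 Real.pi_pos.ne'
    have e1 : (π : ℂ) / (-π * I * τ) = I / τ := by
      field_simp
      rw [I_sq]
    have e2 : ((n : ℂ) / 2) = (h : ℂ) := by subst hn; push_cast; ring
    rw [e1, e2, cpow_natCast, gauss]
    congr 2
    have e3 : (qf M⁻¹ᵀ (vec k) : ℂ) = ∑ i, (w i : ℂ) ^ 2 := by simp [qf, w]
    rw [e3, Finset.sum_congr rfl fun i _ => show (-2 * π * I * (w i : ℂ)) ^ 2 =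
      (-2 * π * I) ^ 2 * (w i : ℂ) ^ 2 by ring, ← Finset.mul_sum]
    field_simp
    ring_nf

/-- The periodisation of the Gaussian. -/
noncomputable def period (M : Matrix (Fin n) (Fin n) ℝ) (τ : ℂ) (x : Fin n → ℝ) : ℂ :=
  ∑' m : Fin n → ℤ, gauss M τ (x + vec m)

/-- Poisson summation for a Gaussian. -/
theorem poisson {M : Matrix (Fin n) (Fin n) ℝ} (hM : |M.det| = 1) {h : ℕ} (hn : n = 2 * h)
    {τ : ℂ} (hτ : 0 < τ.im) :
    ∑' m : Fin n → ℤ, gauss M τ (vec m) =
      (I / τ) ^ h * ∑' k : Fin n → ℤ, gauss M⁻¹ᵀ (-1 / τ) (vec k) := by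
  have hdet : IsUnit M.det := isUnit_iff_ne_zero.2 fun e => by simp [e] at hM
  obtain ⟨c, hc, hcM⟩ := qf_bound hdet
  have hshift : ∀ x (a : Fin n → ℤ), period M τ (x + vec a) = period M τ x := fun x a => by
    unfold period
    conv_rhs => rw [← (Equiv.addLeft a).tsum_eq]
    exact tsum_congr fun m => by rw [Equiv.coe_addLeft, vec_add, add_assoc]
  have hcont : Continuous (period M τ) := by
    refine continuous_iff_continuousAt.2 fun x => ?_
    have hopen : IsOpen {y : Fin n → ℝ | ∑ i, y i ^ 2 < ∑ i, x i ^ 2 + 1} :=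
      isOpen_lt (by fun_prop) continuous_const
    refine (continuousOn_tsum (fun m => ?_)
      ((summable_exp_sum_sq (π * τ.im * c / 2) (by positivity) n).mul_left
        (Real.exp (π * τ.im * c * (∑ i, x i ^ 2 + 1))))
      (fun m y (hy : ∑ i, y i ^ 2 < ∑ i, x i ^ 2 + 1) =>
        norm_gauss_shift_le hc hcM hτ.le y hy.le m)).continuousAt (hopen.mem_nhds (show ∑ i, x i ^ 2 < ∑ i, x i ^ 2 + 1 from lt_add_one _))
    exact ((continuous_gauss M τ).comp (continuous_id.add continuous_const)).continuousOn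
  let pr : (Fin n → ℝ) → UnitAddTorus (Fin n) := fun x i => (x i : UnitAddCircle)
  let lift : UnitAddTorus (Fin n) → Fin n → ℝ := fun z i => (AddCircle.equivIco (1 : ℝ) 0 (z i) : ℝ)
  have hlift : ∀ x, ∃ a : Fin n → ℤ, lift (pr x) = x + vec a := fun x => by
    have : ∀ i, ∃ a : ℤ, lift (pr x) i = x i + a := fun i => by
      have e : ((lift (pr x) i : ℝ) : UnitAddCircle) = (x i : UnitAddCircle) := AddCircle.coe_equivIco
      obtain ⟨a, ha⟩ := AddSubgroup.mem_zmultiples_iff.1 (QuotientAddGroup.eq.1 e.symm)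
      refine ⟨a, ?_⟩
      simp only [zsmul_eq_mul, mul_one] at ha
      linarith
    choose a ha using this
    exact ⟨a, funext ha⟩
  let F : C(UnitAddTorus (Fin n), ℂ) := ⟨fun z => period M τ (lift z), by
    have hq : IsOpenQuotientMap pr := IsOpenQuotientMap.piMap fun _ => QuotientAddGroup.isOpenQuotientMap_mk
    refine hq.isQuotientMap.continuous_iff.2 (hcont.congr fun x => ?_)
    obtain ⟨a, ha⟩ := hlift x
    simp only [Function.comp_apply, ha, hshift]⟩
  have hF : ∀ x, F (pr x) = period M τ x := fun x => by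
    obtain ⟨a, ha⟩ := hlift x
    simp [F, ha, hshift]
  have hchr : ∀ (k : Fin n → ℤ) x, UnitAddTorus.mFourier (-k) (pr x) = chr k x := fun k x => by
    simp only [UnitAddTorus.mFourier, ContinuousMap.coe_mk, chr, Complex.exp_sum, pr,
      fourier_coe_apply, Pi.neg_apply]
    refine Finset.prod_congr rfl fun i _ => congrArg exp ?_
    push_cast
    ring
  have hchrp : ∀ (k : Fin n → ℤ) x (m : Fin n → ℤ), chr k (x + vec m) = chr k x := fun k x m => by
    rw [← hchr, ← hchr]
    congr 1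
    funext i
    simp [pr, vec, QuotientAddGroup.mk_add]
  have hco : ∀ k, UnitAddTorus.mFourierCoeff F k = (I / τ) ^ h * gauss M⁻¹ᵀ (-1 / τ) (vec k) := by
    intro k
    obtain ⟨hint, hval⟩ := integral_gauss hM hn hτ k
    let box : Set (Fin n → ℝ) := {x | ∀ i, x i ∈ Ioc (0 : ℝ) (0 + 1)}
    have hbox : MeasurableSet box := MeasurableSet.univ_pi' fun _ => measurableSet_Ioc
    let s : (Fin n → ℤ) → Set (Fin n → ℝ) := fun m => (fun x => x + vec m) '' box
    have hs : ∀ m, s m = {y | ∀ i, y i ∈ Ioc (m i : ℝ) (m i + 1)} := fun m => by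
      ext y
      simp only [s, box, mem_image, mem_setOf_eq, mem_Ioc]
      constructor
      · rintro ⟨x, hx, rfl⟩ i
        simp only [Pi.add_apply, vec]
        constructor <;> linarith [(hx i).1, (hx i).2]
      · intro hy
        refine ⟨y - vec m, fun i => ?_, by simp⟩
        simp only [Pi.sub_apply, vec]
        constructor <;> linarith [(hy i).1, (hy i).2]
    have hsm : ∀ m, MeasurableSet (s m) := fun m => by
      rw [hs]; exact MeasurableSet.univ_pi' fun _ => measurableSet_Ioc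
    have hdisj : Pairwise (Function.onFun Disjoint s) := fun a b hab => by
      refine Set.disjoint_left.2 fun y ha hb => hab (funext fun i => ?_)
      rw [hs] at ha hb
      have h1 : ((a i : ℝ)) < (b i : ℝ) + 1 := (ha i).1.trans_le (hb i).2
      have h2 : ((b i : ℝ)) < (a i : ℝ) + 1 := (hb i).1.trans_le (ha i).2
      norm_cast at h1 h2
      omega
    have hcover : (⋃ m, s m) = univ := eq_univ_of_forall fun y => mem_iUnion.2
      ⟨fun i => ⌈y i⌉ - 1, by
        rw [hs]
        intro i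
        push_cast
        constructor <;> linarith [Int.le_ceil (y i), Int.ceil_lt_add_one (y i)]⟩
    have hsum := hasSum_integral_iUnion hsm hdisj (f := fun x => chr k x * gauss M τ x)
      hint.integrableOn
    rw [hcover, setIntegral_univ, hval] at hsum
    rw [← hsum.tsum_eq, UnitAddTorus.mFourierCoeff_eq_integral F k 0]
    have hint' : ∀ m, ∫ x in s m, chr k x * gauss M τ x =
        ∫ x in box, chr k x * gauss M τ (x + vec m) := fun m => by
      have hp := measurePreserving_add_right (volume : Measure (Fin n → ℝ)) (vec m)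
      rw [show s m = (fun x => x + vec m) '' box from rfl,
        hp.setIntegral_image_emb (measurableEmbedding_addRight _)]
      simp only [hchrp]
    rw [tsum_congr hint']
    refine (setIntegral_congr_fun hbox fun x _ => ?_).trans
      (integral_tsum_of_summable_integral_norm (μ := volume.restrict box)
        (F := fun m x => chr k x * gauss M τ (x + vec m)) (fun m => ?_) ?_).symm
    · show UnitAddTorus.mFourier (-k) (pr x) • F (pr x) = _
      rw [hchr, hF, smul_eq_mul, period, tsum_mul_left]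
    · exact ((measurePreserving_add_right (volume : Measure (Fin n → ℝ)) (vec m)).integrableOn_image
        (measurableEmbedding_addRight _)).1 (hint.integrableOn (s := s m)) |>.congr_fun
          (fun x _ => by simp [hchrp]) hbox
    · refine Summable.of_nonneg_of_le (fun m => integral_nonneg fun _ => norm_nonneg _) (fun m => ?_)
        (((summable_exp_sum_sq (π * τ.im * c / 2) (by positivity) n).mul_left
          (Real.exp (π * τ.im * c * n))).mul_right (volume.real box))
      refine (le_abs_self _).trans ((Real.norm_eq_abs _).symm.le.trans (norm_setIntegral_le_of_norm_le_const (s := box) (μ := (volume : Measure (Fin n → ℝ))) (C := Real.exp (π * τ.im * c * n) *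
        Real.exp (-(π * τ.im * c / 2) * ∑ i, (m i : ℝ) ^ 2)) ?_ fun x hx => ?_))
      · have hb : box = Set.univ.pi fun _ : Fin n => Ioc (0 : ℝ) (0 + 1) := by
          ext x; simp [box]
        rw [hb, volume_pi_pi]
        simp
      · rw [norm_norm, norm_mul]
        have h1 : ‖chr k x‖ = 1 := by simp [chr, norm_exp, mul_re, mul_im]
        rw [h1, one_mul]
        refine norm_gauss_shift_le hc hcM hτ.le x ?_ m
        calc ∑ i, x i ^ 2 ≤ ∑ _i : Fin n, (1 : ℝ) := Finset.sum_le_sum fun i _ => by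
              nlinarith [(hx i).1, (hx i).2]
          _ = n := by simp
  have hτ0 : τ ≠ 0 := fun e => by simp [e] at hτ
  have hτ' : 0 < (-1 / τ).im := by
    simp only [div_im, neg_re, neg_im, one_re, one_im]
    have := normSq_pos.2 hτ0
    ring_nf
    positivity
  have hdet' : IsUnit (M⁻¹ᵀ).det := by
    rw [det_transpose]; exact M.isUnit_nonsing_inv_det hdet
  have hsumm : Summable (UnitAddTorus.mFourierCoeff F) := by
    rw [show UnitAddTorus.mFourierCoeff F = _ from funext hco]
    exact (summable_gauss hdet' hτ').mul_left _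
  have h0 := (UnitAddTorus.hasSum_mFourier_series_apply_of_summable hsumm (pr 0)).tsum_eq
  rw [hF] at h0
  simp only [period, zero_add] at h0
  rw [← h0, ← tsum_mul_left]
  refine tsum_congr fun k => ?_
  rw [hco]
  simp [UnitAddTorus.mFourier, pr]

end CfsgLib.Theta
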